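import Groth.Agent.EtHullLib.Sup
import Groth.Agent.S1573
import Groth.Agent.MiscFlat6.EqualizerDom

/-!
# Admissible étale affine factorizations: finiteness and greatest elements
-/

set_option autoImplicit false
set_option linter.style.haveILetI false
set_option maxHeartbeats 1000000
set_option backward.isDefEq.respectTransparency false

universe u

open CategoryTheory CategoryTheory.Limits AlgebraicGeometry TopologicalSpace

namespace EtHullLib

variable {X S : Scheme.{u}}

theorem exists_maximal_in {E : Scheme.{u}} {C : Set E} (hC : IsClosed C) {x : E} (hx : x ∈ C) :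
    ∃ t, t ⤳ x ∧ t ∈ C ∧ ∀ y, y ⤳ t → y ∈ C → y = t := by
  let I := Scheme.IdealSheafData.vanishingIdeal (⟨C, hC⟩ : Closeds E)
  have hsupp : Set.range I.subschemeι = C := by
    rw [Scheme.IdealSheafData.range_subschemeι]
    exact Scheme.IdealSheafData.coe_support_vanishingIdeal _
  obtain ⟨z, rfl⟩ : x ∈ Set.range I.subschemeι := hsupp.ge hx
  obtain ⟨t, htz, htmax⟩ := SweepSix.exists_maximal_generalization z
  refine ⟨I.subschemeι t, htz.map I.subschemeι.continuous, hsupp.le ⟨t, rfl⟩, fun y hy hyC => ?_⟩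
  obtain ⟨w, rfl⟩ := hsupp.ge hyC
  rw [htmax w (I.subschemeι.isClosedEmbedding.isInducing.specializes_iff.1 hy)]

theorem finite_maximal_in {E : Scheme.{u}} [NoetherianSpace E] {C : Set E} (hC : IsClosed C) :
    {t | t ∈ C ∧ ∀ y, y ⤳ t → y ∈ C → y = t}.Finite := by
  let I := Scheme.IdealSheafData.vanishingIdeal (⟨C, hC⟩ : Closeds E)
  have hsupp : Set.range I.subschemeι = C := by
    rw [Scheme.IdealSheafData.range_subschemeι]
    exact Scheme.IdealSheafData.coe_support_vanishingIdeal _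
  haveI : NoetherianSpace I.subscheme := I.subschemeι.isClosedEmbedding.isInducing.noetherianSpace
  refine ((finite_maximal (E := I.subscheme)).image I.subschemeι).subset fun t ht => ?_
  obtain ⟨z, rfl⟩ := hsupp.ge ht.1
  exact ⟨z, fun y hy => I.subschemeι.isClosedEmbedding.injective
    (ht.2 _ (hy.map I.subschemeι.continuous) (hsupp.le ⟨y, rfl⟩)), rfl⟩

theorem finite_clopens (T : Scheme.{u}) [NoetherianSpace T] :
    {s : Set T | IsClopen s}.Finite := by
  refine Set.Finite.of_finite_image (f := fun s => s ∩ {z : T | ∀ y, y ⤳ z → y = z})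
    ((finite_maximal (E := T)).finite_subsets.subset ?_) fun s hs s' hs' e => ?_
  · rintro _ ⟨s, -, rfl⟩
    exact Set.inter_subset_right
  · ext x
    obtain ⟨t, htx, ht⟩ := SweepSix.exists_maximal_generalization x
    have he : t ∈ s ↔ t ∈ s' :=
      ⟨fun h => (e.le ⟨h, ht⟩).1, fun h => (e.ge ⟨h, ht⟩).1⟩
    exact ⟨fun hx => htx.mem_closed hs'.1 (he.1 (htx.mem_open hs.2 hx)),
      fun hx => htx.mem_closed hs.1 (he.2 (htx.mem_open hs'.2 hx))⟩

/-- An étale affine scheme-theoretically dominant factorization. -/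
structure Adm (f : X ⟶ S) where
  E : Scheme.{u}
  g : E ⟶ S
  u : X ⟶ E
  etale : Etale g
  affine : IsAffineHom g
  dom : IsSchemeTheoreticallyDominant u
  fac : u ≫ g = f

variable {f : X ⟶ S}

attribute [instance] Adm.etale Adm.affine Adm.dom

/-- `B` lies above `A`. -/
def Adm.Le (A B : Adm f) : Prop := ∃ v : B.E ⟶ A.E, B.u ≫ v = A.u ∧ v ≫ A.g = B.g

theorem Adm.hom_unique {A : Adm f} {B : Scheme.{u}} (u : X ⟶ B) [IsSchemeTheoreticallyDominant u]
    {v v' : B ⟶ A.E} (hu : u ≫ v = u ≫ v') (hg : v ≫ A.g = v' ≫ A.g) : v = v' :=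
  MiscFlat6.ext_of_isSchemeTheoreticallyDominant u A.g v v' hg hu

theorem Adm.Le.trans {A B C : Adm f} : A.Le B → B.Le C → A.Le C := by
  rintro ⟨v, hv, hv'⟩ ⟨w, hw, hw'⟩
  exact ⟨w ≫ v, by rw [reassoc_of% hw, hv], by rw [Category.assoc, hv', hw']⟩

theorem Adm.Le.refl (A : Adm f) : A.Le A := ⟨𝟙 _, Category.comp_id _, Category.id_comp _⟩

/-- The relation cut out on `X ×ₛ X`. -/
noncomputable def Adm.rel (A : Adm f) : Set ↥(pullback f f) :=
  (pullback.map f f A.g A.g A.u A.u (𝟙 S) (by simp [A.fac]) (by simp [A.fac])) ⁻¹'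
    Set.range (pullback.diagonal A.g)

theorem Adm.isClopen_rel (A : Adm f) : IsClopen A.rel :=
  IsClopen.preimage ⟨(pullback.diagonal A.g).isClosedEmbedding.isClosed_range,
    (pullback.diagonal A.g).isOpenEmbedding.isOpen_range⟩ (Scheme.Hom.continuous _)

theorem Adm.rel_anti {A B : Adm f} (h : A.Le B) : B.rel ⊆ A.rel := by
  obtain ⟨v, hv, hv'⟩ := h
  rintro x ⟨b, hb⟩
  let m := pullback.map B.g B.g A.g A.g v v (𝟙 S) (by simp [hv']) (by simp [hv'])
  refine ⟨v b, ?_⟩
  have e1 : pullback.diagonal B.g ≫ m = v ≫ pullback.diagonal A.g := by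
    apply pullback.hom_ext <;> simp [m]
  have e2 : pullback.map f f B.g B.g B.u B.u (𝟙 S) (by simp [B.fac]) (by simp [B.fac]) ≫ m =
      pullback.map f f A.g A.g A.u A.u (𝟙 S) (by simp [A.fac]) (by simp [A.fac]) := by
    apply pullback.hom_ext <;> simp [m, hv]
  rw [← Scheme.Hom.comp_apply, ← e1, Scheme.Hom.comp_apply, hb, ← Scheme.Hom.comp_apply, e2]

variable [IsNoetherian S] [Flat f] [LocallyOfFinitePresentation f] [QuasiCompact f]

theorem Adm.noetherian (A : Adm f) : IsNoetherian A.E :=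
  haveI : IsLocallyNoetherian A.E := LocallyOfFiniteType.isLocallyNoetherian A.g
  haveI : CompactSpace A.E := QuasiCompact.compactSpace_of_compactSpace A.g
  { }

theorem Adm.flat_u (A : Adm f) : Flat A.u := by
  haveI : Flat (A.u ≫ A.g) := by rw [A.fac]; infer_instance
  exact flat_of_comp_etale A.u A.g

theorem Adm.qc_u (A : Adm f) : QuasiCompact A.u := by
  haveI : QuasiCompact (A.u ≫ A.g) := by rw [A.fac]; infer_instance
  exact MorphismProperty.of_postcomp @QuasiCompact (W' := @QuasiSeparated) A.u A.g inferInstance ‹_›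

theorem Adm.isOpen_range (A : Adm f) : IsOpen (Set.range A.u) := by
  haveI := A.flat_u
  haveI := A.noetherian
  haveI : LocallyOfFiniteType (A.u ≫ A.g) := by rw [A.fac]; infer_instance
  haveI : LocallyOfFiniteType A.u := locallyOfFiniteType_of_comp A.u A.g
  haveI : LocallyOfFinitePresentation A.u := UOpenLib.locallyOfFinitePresentation_of_isLocallyNoetherian _
  exact A.u.isOpenMap.isOpen_range

theorem Adm.mem_range_of_maximal (hS : ∀ s : S, CAlg2.IsGeomUnibranch (S.presheaf.stalk s)) (A : Adm f)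
    {m : A.E} (hm : ∀ y, y ⤳ m → y = m) : m ∈ Set.range A.u := by
  haveI := A.noetherian
  haveI := A.qc_u
  obtain ⟨W, ξ, hmW, -, hW⟩ := exists_nhd_maximal hS A.g m
  obtain ⟨_, haW, ⟨a, rfl⟩⟩ := mem_closure_iff.1 (A.u.denseRange m) W W.2 hmW
  have : ξ = m := hm ξ (hW m hmW)
  exact (this ▸ hW _ haW).mem_open A.isOpen_range ⟨a, rfl⟩

/-- A morphism of admissible factorizations with the same relation is an open immersion. -/
theorem Adm.isOpenImmersion_of_rel (hS : ∀ s : S, CAlg2.IsGeomUnibranch (S.presheaf.stalk s))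
    {A B : Adm f} (v : B.E ⟶ A.E) (hv : B.u ≫ v = A.u) (hv' : v ≫ A.g = B.g) (hR : A.rel ⊆ B.rel) :
    IsOpenImmersion v := by
  haveI : Etale (v ≫ A.g) := by rw [hv']; infer_instance
  haveI : Etale v := Etale.of_comp v A.g
  haveI : IsAffineHom (v ≫ A.g) := by rw [hv']; infer_instance
  haveI : IsSeparated v := by
    haveI : IsSeparated (v ≫ A.g) := by rw [hv']; infer_instance
    exact IsSeparated.of_comp v A.g
  suffices hs : Surjective (pullback.diagonal v) by
    haveI : IsOpenImmersion (pullback.diagonal v) := inferInstance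
    haveI : IsIso (pullback.diagonal v) :=
      isIso_of_isOpenImmersion_of_opensRange_eq_top _ (Opens.ext (Set.range_eq_univ.2 hs.surj))
    haveI : Mono v := (pullback.isIso_diagonal_iff v).1 inferInstance
    exact IsOpenImmersion.of_flat_of_mono v
  refine ⟨fun p => ?_⟩
  obtain ⟨t, htp, ht⟩ := SweepSix.exists_maximal_generalization p
  suffices ht' : t ∈ Set.range (pullback.diagonal v) from
    htp.mem_closed (pullback.diagonal v).isClosedEmbedding.isClosed_range ht'
  have hmax : ∀ (π : pullback v v ⟶ B.E) [Flat π], π t ∈ Set.range B.u := fun π _ =>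
    B.mem_range_of_maximal hS fun y hy => by
      obtain ⟨w, hw, rfl⟩ := Flat.generalizingMap π hy
      rw [ht w hw]
  let ι := pullback.mapDesc v v A.g
  let mB := pullback.map f f B.g B.g B.u B.u (𝟙 S) (by simp [B.fac]) (by simp [B.fac])
  let ι' : pullback v v ⟶ pullback B.g B.g := pullback.lift (pullback.fst v v) (pullback.snd v v)
    (by rw [← hv', pullback.condition_assoc])
  obtain ⟨x, hx⟩ : ι' t ∈ Set.range mB := by
    rw [Scheme.Pullback.range_map]
    constructor
    · show pullback.fst B.g B.g (ι' t) ∈ Set.range B.u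
      rw [← Scheme.Hom.comp_apply, pullback.lift_fst]
      exact hmax _
    · show pullback.snd B.g B.g (ι' t) ∈ Set.range B.u
      rw [← Scheme.Hom.comp_apply, pullback.lift_snd]
      exact hmax _
  let m := pullback.map B.g B.g A.g A.g v v (𝟙 S) (by simp [hv']) (by simp [hv'])
  have hxA : x ∈ A.rel := by
    refine ⟨v (pullback.fst v v t), ?_⟩
    have e1 : ι' ≫ m = (pullback.fst v v ≫ v) ≫ pullback.diagonal A.g := by
      apply pullback.hom_ext <;> simp [m, ι', pullback.condition]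
    have e2 : mB ≫ m = pullback.map f f A.g A.g A.u A.u (𝟙 S) (by simp [A.fac]) (by simp [A.fac]) := by
      apply pullback.hom_ext <;> simp [m, mB, hv]
    rw [← e2, Scheme.Hom.comp_apply, hx, ← Scheme.Hom.comp_apply ι' m, e1]
    rfl
  obtain ⟨e, he⟩ := hR hxA
  refine ⟨e, ?_⟩
  have hinj : Function.Injective ι' := by
    haveI : Mono ι' := ⟨fun a b hab => by
      apply pullback.hom_ext
      · simpa [ι'] using congrArg (· ≫ pullback.fst B.g B.g) hab
      · simpa [ι'] using congrArg (· ≫ pullback.snd B.g B.g) hab⟩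
    exact Scheme.Hom.injective ι'
  refine hinj ?_
  rw [← Scheme.Hom.comp_apply, show pullback.diagonal v ≫ ι' = pullback.diagonal B.g from by
    apply pullback.hom_ext <;> simp [ι'], he, hx]

/-- Ranges of open immersions over a fixed factorization form a finite family. -/
theorem Adm.finite_ranges (hS : ∀ s : S, CAlg2.IsGeomUnibranch (S.presheaf.stalk s)) (A : Adm f) :
    {U : Set A.E | ∃ (B : Adm f) (v : B.E ⟶ A.E), B.u ≫ v = A.u ∧ v ≫ A.g = B.g ∧ IsOpenImmersion v ∧
      U = Set.range v}.Finite := by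
  haveI := A.noetherian
  let T := {t | t ∈ (Set.range A.u)ᶜ ∧ ∀ y, y ⤳ t → y ∈ (Set.range A.u)ᶜ → y = t}
  have hT : T.Finite := finite_maximal_in A.isOpen_range.isClosed_compl
  refine Set.Finite.of_finite_image (f := fun U => {t ∈ T | t ∉ U ∧ ∀ y, y ⤳ t → y ∉ U → y = t})
    (hT.finite_subsets.subset ?_) ?_
  · rintro _ ⟨U, -, rfl⟩
    exact fun t ht => ht.1
  · have key : ∀ U ∈ {U : Set A.E | ∃ (B : Adm f) (v : B.E ⟶ A.E), B.u ≫ v = A.u ∧ v ≫ A.g = B.g ∧
        IsOpenImmersion v ∧ U = Set.range v},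
        ∀ x, x ∉ U ↔ ∃ t, (t ∈ T ∧ t ∉ U ∧ ∀ y, y ⤳ t → y ∉ U → y = t) ∧ t ⤳ x := by
      rintro U ⟨B, v, hv, hv', hvo, rfl⟩ x
      haveI := hvo
      refine ⟨fun hx => ?_, fun ⟨t, ht, htx⟩ hx => ht.2.1 (htx.mem_open v.isOpenEmbedding.isOpen_range hx)⟩
      obtain ⟨t, htx, htU, htmax⟩ := exists_maximal_in v.isOpenEmbedding.isOpen_range.isClosed_compl hx
      haveI : IsAffineHom v := by
        haveI : IsAffineHom (v ≫ A.g) := by rw [hv']; infer_instance
        exact IsAffineHom.of_comp v A.g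
      haveI : IsAffineHom v.opensRange.ι := by
        rw [← show v.isoOpensRange.inv ≫ v = v.opensRange.ι from by
          rw [Iso.inv_comp_eq, Scheme.Hom.isoOpensRange_hom_ι]]
        infer_instance
      have hd := (Groth.Agent.S1573.result A.E v.opensRange t htU fun y hy hy' => htmax y hy' hy).1
      have hsub : Set.range A.u ⊆ Set.range v := by
        rintro _ ⟨a, rfl⟩
        exact ⟨B.u a, by rw [← Scheme.Hom.comp_apply, hv]⟩
      refine ⟨t, ⟨⟨fun h => htU (hsub h), fun y hy hyO => ?_⟩, htU, htmax⟩, htx⟩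
      by_contra hne
      refine hyO (A.mem_range_of_maximal hS fun z hz => ?_)
      refine eq_of_specializes_of_dim_le_zero hz ?_
      have hlt : t < y := lt_of_le_not_ge (show t ≤ y from hy) fun h => hne ((show y ⤳ t from hy).antisymm h).eq
      have h1 := Order.coheight_add_one_le hlt
      rw [ringKrullDim_stalk_eq_coheight] at hd ⊢
      generalize Order.coheight y = a at h1
      generalize Order.coheight t = b at h1 hd
      have hb : b ≤ 1 := WithBot.coe_le_coe.1 hd
      have : a = 0 := by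
        have h2 := h1.trans hb
        cases a with
        | top => simp at h2
        | coe n =>
          have : n + 1 ≤ 1 := by exact_mod_cast h2
          simp only [Nat.cast_inj, Nat.cast_eq_zero]
          exact_mod_cast (show n = 0 by omega)
      rw [this]
      rfl
    intro U hU U' hU' e
    ext x
    rw [← not_iff_not, key U hU, key U' hU']
    have e' := Set.ext_iff.1 e
    exact exists_congr fun t => and_congr_left fun _ => e' t

/-- A class closed under suprema has a greatest element. -/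
theorem exists_greatest (hS : ∀ s : S, CAlg2.IsGeomUnibranch (S.presheaf.stalk s)) [QuasiSeparated f]
    (P : Adm f → Prop) (hne : ∃ A, P A)
    (hsup : ∀ A B, P A → P B → ∃ C, P C ∧ A.Le C ∧ B.Le C) : ∃ G, P G ∧ ∀ B, P B → B.Le G := by
  haveI : IsLocallyNoetherian X := LocallyOfFiniteType.isLocallyNoetherian f
  haveI : IsLocallyNoetherian (pullback f f) := LocallyOfFiniteType.isLocallyNoetherian (pullback.fst f f ≫ f)
  haveI : CompactSpace (pullback f f : Scheme.{u}) :=
    QuasiCompact.compactSpace_of_compactSpace (pullback.fst f f ≫ f)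
  haveI : IsNoetherian (pullback f f) := { }
  have h1 : {R | ∃ A, P A ∧ A.rel = R}.Finite :=
    (finite_clopens _).subset fun R ⟨A, _, e⟩ => e ▸ A.isClopen_rel
  obtain ⟨_, ⟨A, hA, rfl⟩, hAmin⟩ := h1.exists_minimal ⟨_, hne.choose, hne.choose_spec, rfl⟩
  have hRmin : ∀ C, P C → A.Le C → A.rel ⊆ C.rel := fun C hC h => hAmin ⟨C, hC, rfl⟩ (Adm.rel_anti h)
  have h2 : {U : Set A.E | ∃ B, P B ∧ ∃ v : B.E ⟶ A.E, B.u ≫ v = A.u ∧ v ≫ A.g = B.g ∧
      IsOpenImmersion v ∧ U = Set.range v}.Finite :=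
    (A.finite_ranges hS).subset fun U ⟨B, _, h⟩ => ⟨B, h⟩
  obtain ⟨_, ⟨G, hG, v, hv, hv', hvo, rfl⟩, hGmin⟩ :=
    h2.exists_minimal ⟨_, A, hA, 𝟙 _, Category.comp_id _, Category.id_comp _, inferInstance, rfl⟩
  refine ⟨G, hG, fun B hB => ?_⟩
  obtain ⟨D, hD, hGD, hBD⟩ := hsup G B hG hB
  refine hBD.trans ?_
  obtain ⟨w, hw, hw'⟩ := hGD
  have hwv : D.u ≫ w ≫ v = A.u := by rw [reassoc_of% hw, hv]
  have hwv' : (w ≫ v) ≫ A.g = D.g := by rw [Category.assoc, hv', hw']
  have hDo : IsOpenImmersion (w ≫ v) :=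
    Adm.isOpenImmersion_of_rel hS _ hwv hwv' (hRmin D hD ⟨w ≫ v, hwv, hwv'⟩)
  haveI := hvo
  haveI := hDo
  have hle : Set.range (w ≫ v) ⊆ Set.range v := by
    rintro _ ⟨z, rfl⟩
    exact ⟨w z, (Scheme.Hom.comp_apply _ _ _).symm⟩
  have hge : Set.range v ⊆ Set.range (w ≫ v) := hGmin ⟨D, hD, w ≫ v, hwv, hwv', hDo, rfl⟩ hle
  haveI : IsOpenImmersion w := IsOpenImmersion.of_comp w v
  haveI : Surjective w := ⟨fun y => by
    obtain ⟨z, hz⟩ := hge ⟨y, rfl⟩
    exact ⟨z, v.isOpenEmbedding.injective (by rw [← Scheme.Hom.comp_apply, hz])⟩⟩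
  haveI : IsIso w :=
    isIso_of_isOpenImmersion_of_opensRange_eq_top w (Opens.ext (Set.range_eq_univ.2 w.surjective))
  exact ⟨inv w, by rw [← hw, Category.assoc, IsIso.hom_inv_id, Category.comp_id],
    by rw [← hw', IsIso.inv_hom_id_assoc]⟩

end EtHullLib
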