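import Groth.Agent.S1700
import Groth.Agent.S1571
import Groth.Agent.S16496
import Groth.Agent.RegUFDLib.Basic
import Groth.Agent.DetModLib.Div
import Groth.Agent.MiscFlat6.DimZero
import Groth.Agent.NormalExtLib.Scheme
import Groth.Agent.SweepSix.MaxPts
import Groth.Agent.AVAmpleLib.Divisor

/-!
# The affine open containing an open subscheme up to codimension two
-/

set_option autoImplicit false
set_option linter.style.haveILetI false
set_option maxHeartbeats 1000000
set_option backward.isDefEq.respectTransparency false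

universe u

open CategoryTheory CategoryTheory.Limits AlgebraicGeometry TopologicalSpace

namespace EtHullLib

variable {E : Scheme.{u}}

theorem dim_le_of_specializes {x y : E} (h : y ⤳ x) :
    ringKrullDim (E.presheaf.stalk y) ≤ ringKrullDim (E.presheaf.stalk x) := by
  rw [ringKrullDim_stalk_eq_coheight, ringKrullDim_stalk_eq_coheight]
  exact_mod_cast Order.coheight_anti (show x ≤ y from h)

theorem eq_of_specializes_of_dim_le_zero {x y : E} (h : y ⤳ x)
    (hx : ringKrullDim (E.presheaf.stalk x) ≤ 0) : y = x := by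
  haveI : Ring.KrullDimLE 0 (E.presheaf.stalk x) := (Ring.krullDimLE_iff).2 hx
  obtain ⟨p, rfl⟩ : y ∈ Set.range (E.fromSpecStalk x) := by rw [Scheme.range_fromSpecStalk]; exact h
  haveI : Subsingleton (PrimeSpectrum (E.presheaf.stalk x)) := inferInstance
  rw [show p = IsLocalRing.closedPoint _ from Subsingleton.elim (α := PrimeSpectrum (E.presheaf.stalk x)) _ _]
  exact Scheme.fromSpecStalk_closedPoint

/-- The closure of an open is open when all local rings are domains. -/
theorem isOpen_closure [IsLocallyNoetherian E] (hdom : ∀ x : E, IsDomain (E.presheaf.stalk x)) (U : E.Opens) :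
    IsOpen (closure (U : Set E)) := by
  refine isOpen_iff_forall_mem_open.2 fun x hx => ?_
  haveI := hdom x
  obtain ⟨W, hxW, hW⟩ := NormalExtLib.exists_isIntegral_nhd x
  haveI := hW
  refine ⟨W, fun w hw => ?_, W.2, hxW⟩
  rw [mem_closure_iff]
  intro O hO hwO
  obtain ⟨a, haW, haU⟩ := mem_closure_iff.1 hx W W.2 hxW
  have h1 : (W.ι ⁻¹' (U : Set E)).Nonempty := ⟨⟨a, haW⟩, haU⟩
  have h2 : (W.ι ⁻¹' O).Nonempty := ⟨⟨w, hw⟩, hwO⟩
  obtain ⟨b, hb1, hb2⟩ := nonempty_preirreducible_inter (U.2.preimage W.ι.continuous)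
    (hO.preimage W.ι.continuous) h1 h2
  exact ⟨W.ι b, hb2, hb1⟩

/-- An affine open containing `U` in which the complement of `U` has codimension at least two. -/
theorem exists_affine [IsAffine E] [IsNoetherian E]
    (hreg : ∀ x : E, IsRegularLocalRing (E.presheaf.stalk x)) (U : E.Opens) :
    ∃ V : E.Opens, IsAffineOpen V ∧ U ≤ V ∧
      ∀ x : E, x ∈ V → x ∉ U → (2 : WithBot ℕ∞) ≤ ringKrullDim (E.presheaf.stalk x) := by
  have hdom : ∀ x : E, IsDomain (E.presheaf.stalk x) := fun x =>
    haveI := hreg x; CommAlgDim.isDomain_of_isRegularLocalRing _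
  let Z : Closeds E := ⟨(U : Set E)ᶜ, U.2.isClosed_compl⟩
  let T : Set E := {t | t ∉ U ∧ (∀ y, y ⤳ t → y ∉ U → y = t) ∧ ringKrullDim (E.presheaf.stalk t) = 1}
  have hTfin : T.Finite := by
    let I := Scheme.IdealSheafData.vanishingIdeal Z
    haveI : NoetherianSpace I.subscheme := I.subschemeι.isClosedEmbedding.isInducing.noetherianSpace
    have hsupp : Set.range I.subschemeι = (U : Set E)ᶜ := by
      rw [Scheme.IdealSheafData.range_subschemeι]
      exact Scheme.IdealSheafData.coe_support_vanishingIdeal Z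
    have hfin : {z : I.subscheme | ∀ y, y ⤳ z → y = z}.Finite := by
      refine Set.Finite.of_finite_image (f := fun z => closure ({z} : Set I.subscheme))
        ((NoetherianSpace.finite_irreducibleComponents).subset ?_) fun a _ b _ e =>
          (inseparable_iff_closure_eq.2 e).eq
      rintro _ ⟨z, hz, rfl⟩
      refine ⟨isIrreducible_singleton.closure, fun s hs hle => ?_⟩
      obtain ⟨w, hw⟩ := QuasiSober.sober hs.closure isClosed_closure
      have : w ⤳ z := hw.specializes (subset_closure (hle (subset_closure rfl)))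
      rw [hz w this] at hw
      exact subset_closure.trans hw.def.ge
    refine (hfin.image I.subschemeι).subset fun t ht => ?_
    obtain ⟨z, rfl⟩ : t ∈ Set.range I.subschemeι := by rw [hsupp]; exact ht.1
    refine ⟨z, fun y hy => I.subschemeι.isClosedEmbedding.injective ?_, rfl⟩
    refine ht.2.1 _ (hy.map I.subschemeι.continuous) fun hyU => ?_
    have : I.subschemeι y ∈ Set.range I.subschemeι := ⟨y, rfl⟩
    rw [hsupp] at this
    exact this hyU
  let C : Closeds E := ⟨⋃ t ∈ T, closure {t}, hTfin.isClosed_biUnion fun _ _ => isClosed_closure⟩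
  let D := Scheme.IdealSheafData.vanishingIdeal C
  have hsD : (D.support : Set E) = (C : Set E) := Scheme.IdealSheafData.coe_support_vanishingIdeal C
  have hD : BlowUp.IsEffCartierIdeal D := by
    haveI : AlgebraicGeometry.IsReduced D.subscheme := DevissLib.isReduced_vanishingIdeal' _
    haveI : IsLocallyNoetherian D.subscheme := LocallyOfFiniteType.isLocallyNoetherian D.subschemeι
    refine Groth.Agent.S1700.result E D (fun z hz z' hz' => ?_) (fun z hz => ?_)
      fun x _ => ⟨hdom x, haveI := hreg x; RegUFDLib.uniqueFactorizationMonoid _⟩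
    · have hmin := AVAmpleLib.not_assoc_of_not_min hz
      obtain ⟨p, rfl⟩ : z' ∈ Set.range (D.subscheme.fromSpecStalk z) := by
        rw [Scheme.range_fromSpecStalk]; exact hz'
      rw [show p = IsLocalRing.closedPoint _ from PrimeSpectrum.ext
        (le_antisymm (IsLocalRing.le_maximalIdeal p.isPrime.ne_top) (hmin.2 ⟨p.isPrime, bot_le⟩
          (IsLocalRing.le_maximalIdeal p.isPrime.ne_top)))]
      exact Scheme.fromSpecStalk_closedPoint
    · have hzC : D.subschemeι z ∈ (C : Set E) := by
        rw [← hsD, ← Scheme.IdealSheafData.range_subschemeι]; exact ⟨z, rfl⟩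
      obtain ⟨t, htT, ht⟩ := Set.mem_iUnion₂.1 hzC
      obtain ⟨z', hz'⟩ : t ∈ Set.range D.subschemeι := by
        rw [Scheme.IdealSheafData.range_subschemeι, hsD]
        exact Set.mem_iUnion₂.2 ⟨t, htT, subset_closure rfl⟩
      have : z' = z := hz z' (D.subschemeι.isClosedEmbedding.isInducing.specializes_iff.1
        (by rw [hz']; exact specializes_iff_mem_closure.2 ht))
      rw [← this, hz']
      exact htT.2.2
  haveI := (Groth.Agent.S1571.result E D hD).1
  have hV₁ : IsAffineOpen (D.support.compl : E.Opens) := isAffine_of_isAffineHom (Scheme.Opens.ι (X := E) D.support.compl)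
  let V₂ : E.Opens := ⟨closure (U : Set E), isOpen_closure hdom U⟩
  have hV₂ : IsAffineOpen V₂ := MiscFlat6.isAffineOpen_of_clopen (X := E) (isAffineOpen_top E) le_top isClosed_closure
  refine ⟨D.support.compl ⊓ V₂, hV₁.inf hV₂, fun x hx => ⟨?_, subset_closure hx⟩, ?_⟩
  · show x ∉ (D.support : Set E)
    rw [hsD]
    intro hxC
    obtain ⟨t, htT, ht⟩ := Set.mem_iUnion₂.1 hxC
    exact htT.1 ((specializes_iff_mem_closure.2 ht).mem_open U.2 hx)
  · rintro x ⟨hx₁, hx₂⟩ hxU
    by_contra hd
    obtain ⟨ξ, hξx, hξU, hξmax⟩ : ∃ ξ, ξ ⤳ x ∧ ξ ∉ U ∧ ∀ y, y ⤳ ξ → y ∉ U → y = ξ := by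
      let I := Scheme.IdealSheafData.vanishingIdeal Z
      have hsupp : Set.range I.subschemeι = (U : Set E)ᶜ := by
        rw [Scheme.IdealSheafData.range_subschemeι]
        exact Scheme.IdealSheafData.coe_support_vanishingIdeal Z
      obtain ⟨z, rfl⟩ : x ∈ Set.range I.subschemeι := by rw [hsupp]; exact hxU
      obtain ⟨t, htz, htmax⟩ := SweepSix.exists_maximal_generalization z
      refine ⟨I.subschemeι t, htz.map I.subschemeι.continuous, ?_, fun y hy hyU => ?_⟩
      · have : I.subschemeι t ∈ Set.range I.subschemeι := ⟨t, rfl⟩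
        rw [hsupp] at this
        exact this
      · obtain ⟨w, rfl⟩ : y ∈ Set.range I.subschemeι := by rw [hsupp]; exact hyU
        rw [htmax w (I.subschemeι.isClosedEmbedding.isInducing.specializes_iff.1 hy)]
    have hξd := (dim_le_of_specializes hξx).trans (not_le.1 hd).le
    have hξ0 : ringKrullDim (E.presheaf.stalk ξ) ≤ 0 := by
      have hd2 : ringKrullDim (E.presheaf.stalk ξ) < 2 := lt_of_le_of_lt (dim_le_of_specializes hξx) (not_le.1 hd)
      by_contra h0
      refine hx₁ (show x ∈ (D.support : Set E) from ?_)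
      rw [hsD]
      refine Set.mem_iUnion₂.2 ⟨ξ, ⟨hξU, hξmax, ?_⟩, specializes_iff_mem_closure.1 hξx⟩
      rw [ringKrullDim_stalk_eq_coheight] at hd2 h0 ⊢
      generalize Order.coheight ξ = n at *
      cases n with
      | top => exact absurd hd2 (by simp)
      | coe m =>
        have h2 : m < 2 := by
          have : ((m : ℕ∞)) < 2 := WithBot.coe_lt_coe.1 hd2
          exact_mod_cast this
        have h1 : ¬ m ≤ 0 := fun h => h0 (by exact_mod_cast h)
        have : m = 1 := by omega
        subst this
        rfl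
    have hξV₂ : ξ ∈ closure (U : Set E) := hξx.mem_open (isOpen_closure hdom U) hx₂
    haveI := hdom ξ
    obtain ⟨W, hξW, hW⟩ := NormalExtLib.exists_isIntegral_nhd ξ
    haveI := hW
    obtain ⟨a, haW, haU⟩ := mem_closure_iff.1 hξV₂ W W.2 hξW
    have hgen : W.ι (genericPoint (W : Scheme.{u})) ⤳ ξ := (genericPoint_specializes (α := ↥(W : Scheme.{u})) ⟨ξ, hξW⟩).map W.ι.continuous
    have := eq_of_specializes_of_dim_le_zero hgen hξ0
    refine hξU (this ▸ ?_)
    exact ((genericPoint_specializes (α := ↥(W : Scheme.{u})) ⟨a, haW⟩).map W.ι.continuous).mem_open U.2 haU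

end EtHullLib
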