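import Groth.Prelude.Def_FDesc
import Groth.Prelude.Def_CAlg2
import Groth.Agent.EtHullLib.Basic
import Groth.Agent.AssPointLib.Dense
import Groth.Agent.GenFibNearLib.AssDense
import Groth.Agent.CurvLib.EulerTensor
import Groth.Agent.EtStalkLib.Basic
import Groth.Agent.ProperConnLib.EtaleUnibranch

/-!
# Étale schemes over geometrically unibranch schemes without embedded points
-/

set_option autoImplicit false
set_option linter.style.haveILetI false
set_option maxHeartbeats 1000000
set_option backward.isDefEq.respectTransparency false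

universe u

open CategoryTheory CategoryTheory.Limits AlgebraicGeometry TopologicalSpace

namespace EtHullLib

variable {E S : Scheme.{u}}

theorem dim_le_zero_of_maximal {t : E} (ht : ∀ y, y ⤳ t → y = t) :
    ringKrullDim (E.presheaf.stalk t) ≤ 0 := by
  refine Ring.krullDimLE_iff.1 (Ring.krullDimLE_zero_iff.2 fun p hp => ?_)
  have h1 : E.fromSpecStalk t ⟨p, hp⟩ ⤳ t := by
    have : E.fromSpecStalk t ⟨p, hp⟩ ∈ Set.range (E.fromSpecStalk t) := ⟨_, rfl⟩
    rw [Scheme.range_fromSpecStalk] at this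
    exact this
  have h2 : (⟨p, hp⟩ : PrimeSpectrum (E.presheaf.stalk t)) = IsLocalRing.closedPoint _ :=
    (E.fromSpecStalk t).isEmbedding.injective ((ht _ h1).trans Scheme.fromSpecStalk_closedPoint.symm)
  rw [show p = IsLocalRing.maximalIdeal _ from congrArg PrimeSpectrum.asIdeal h2]
  infer_instance

/-- A point whose maximal ideal is associated is a maximal point, when there are no embedded points. -/
theorem eq_of_specializes_of_ass [IsLocallyNoetherian S]
    (hemb : AssSch.NoEmbedded (Coh.structureModule S)) {s : S}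
    (hs : IsAssociatedPrime (IsLocalRing.maximalIdeal (S.presheaf.stalk s)) (S.presheaf.stalk s))
    (y : S) (hy : y ⤳ s) : y = s := by
  obtain ⟨t, hty, ht⟩ := SweepSix.exists_maximal_generalization y
  haveI : Ring.KrullDimLE 0 (S.presheaf.stalk t) := Ring.krullDimLE_iff.2 (dim_le_zero_of_maximal ht)
  have htA : IsAssociatedPrime (IsLocalRing.maximalIdeal (S.presheaf.stalk t)) (S.presheaf.stalk t) := by
    obtain ⟨p, hp⟩ := associatedPrimes.nonempty (S.presheaf.stalk t) (S.presheaf.stalk t)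
    haveI := hp.isPrime
    haveI : p.IsMaximal := inferInstance
    exact (IsLocalRing.eq_maximalIdeal ‹p.IsMaximal›) ▸ hp
  have := hemb s ((LinearEquiv.AssociatedPrimes.eq (CurvLib.stalkStructureEquiv s)).ge hs) t
    ((LinearEquiv.AssociatedPrimes.eq (CurvLib.stalkStructureEquiv t)).ge htA) (hty.trans hy)
  subst this
  exact ht y (hy)

theorem eq_of_specializes_of_ass_etale [IsLocallyNoetherian S]
    (hemb : AssSch.NoEmbedded (Coh.structureModule S)) (f : E ⟶ S) [Etale f] {x : E}
    (hx : IsAssociatedPrime (IsLocalRing.maximalIdeal (E.presheaf.stalk x)) (E.presheaf.stalk x))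
    (y : E) (hy : y ⤳ x) : y = x := by
  haveI : IsLocallyNoetherian E := LocallyOfFiniteType.isLocallyNoetherian f
  obtain ⟨h1, h2, h3, -⟩ := EtStalkLib.stalk_props f x
  letI := (f.stalkMap x).hom.toAlgebra
  let A := S.presheaf.stalk (f x)
  let B := E.presheaf.stalk x
  have hA : IsAssociatedPrime (IsLocalRing.maximalIdeal A) A := by
    by_contra hA
    obtain ⟨t, htm, ht⟩ : ∃ t ∈ IsLocalRing.maximalIdeal A, t ∈ nonZeroDivisors A := by
      by_contra! hc
      have hsub : (IsLocalRing.maximalIdeal A : Set A) ⊆ ⋃ p ∈ associatedPrimes A A, (p : Set A) := by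
        intro a ha
        rw [biUnion_associatedPrimes_eq_compl_nonZeroDivisors]
        exact hc a ha
      obtain ⟨p, hp, hle⟩ := (Ideal.subset_union_prime_finite (associatedPrimes.finite A A) ⊥ ⊥
        fun i hi _ _ => hi.isPrime).1 hsub
      haveI := hp.isPrime
      exact hA ((IsLocalRing.le_maximalIdeal (Ideal.IsPrime.ne_top inferInstance)).antisymm hle ▸ hp)
    have ht' : algebraMap A B t ∈ nonZeroDivisors B := by
      rw [mem_nonZeroDivisors_iff_right]
      intro b hb
      have : IsSMulRegular B t := Module.Flat.isSMulRegular_of_nonZeroDivisors ht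
      refine this (?_ : t • b = t • 0)
      rw [smul_zero, Algebra.smul_def, mul_comm]
      exact hb
    have htm' : algebraMap A B t ∈ IsLocalRing.maximalIdeal B := h3 ▸ Ideal.mem_map_of_mem _ htm
    obtain ⟨-, b, hb⟩ := isAssociatedPrime_iff.1 hx
    rw [hb, Submodule.mem_colon_singleton, Submodule.mem_bot, smul_eq_mul] at htm'
    have hb0 : b = 0 := (mem_nonZeroDivisors_iff_left.1 ht' b htm')
    refine (IsLocalRing.maximalIdeal.isMaximal B).ne_top ?_
    rw [hb, hb0, Ideal.eq_top_iff_one, Submodule.mem_colon_singleton, Submodule.mem_bot, smul_zero]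
  have hfy : f y = f x := eq_of_specializes_of_ass hemb hA _ (hy.map f.continuous)
  refine eq_of_specializes_of_dim_le_zero hy (Ring.krullDimLE_iff.1 (Ring.krullDimLE_zero_iff.2 fun p hp => ?_))
  have hAd : Ring.KrullDimLE 0 A :=
    Ring.krullDimLE_iff.2 (dim_le_zero_of_maximal fun z hz => eq_of_specializes_of_ass hemb hA z hz)
  haveI : (p.comap (algebraMap A B)).IsMaximal := inferInstance
  have h4 := IsLocalRing.eq_maximalIdeal ‹(p.comap (algebraMap A B)).IsMaximal›
  have : IsLocalRing.maximalIdeal B ≤ p := by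
    rw [← h3, Ideal.map_le_iff_le_comap]
    exact h4.ge
  rw [← (IsLocalRing.le_maximalIdeal hp.ne_top).antisymm this |>.symm]
  infer_instance

theorem maximal_unique (hS : ∀ s : S, CAlg2.IsGeomUnibranch (S.presheaf.stalk s)) (f : E ⟶ S) [Etale f]
    {x ξ ξ' : E} (h : ξ ⤳ x) (h' : ξ' ⤳ x) (hm : ∀ y, y ⤳ ξ → y = ξ) (hm' : ∀ y, y ⤳ ξ' → y = ξ') :
    ξ = ξ' := by
  have hmax : ∀ {η : E}, (∀ y, y ⤳ η → y = η) → ∀ z, z ⤳ f η → z = f η := fun hη z hz => by
    obtain ⟨w, hw, rfl⟩ := Flat.generalizingMap f hz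
    rw [hη w hw]
  refine ProperConnLib.eq_of_etale_unibranch f (hS _) h h' ?_ (hmax hm)
  haveI : IsDomain (CAlg2.red (S.presheaf.stalk (f x))) := (hS (f x)).1.1
  let P₀ : PrimeSpectrum (S.presheaf.stalk (f x)) :=
    ⟨nilradical _, (Ideal.Quotient.isDomain_iff_prime _).1 ‹_›⟩
  have key : ∀ z, z ⤳ f x → (∀ w, w ⤳ z → w = z) → z = S.fromSpecStalk (f x) P₀ := fun z hz hzm => by
    obtain ⟨p, rfl⟩ : z ∈ Set.range (S.fromSpecStalk (f x)) := by rw [Scheme.range_fromSpecStalk]; exact hz
    refine (hzm _ (Specializes.map ?_ (S.fromSpecStalk (f x)).continuous)).symm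
    exact (PrimeSpectrum.le_iff_specializes P₀ p).1 (nilradical_le_prime p.asIdeal)
  exact (key _ (h.map f.continuous) (hmax hm)).trans (key _ (h'.map f.continuous) (hmax hm')).symm

theorem finite_maximal [NoetherianSpace E] : {z : E | ∀ y, y ⤳ z → y = z}.Finite := by
  refine Set.Finite.of_finite_image (f := fun z => closure ({z} : Set E))
    ((NoetherianSpace.finite_irreducibleComponents).subset ?_) fun a _ b _ e =>
      (inseparable_iff_closure_eq.2 e).eq
  rintro _ ⟨z, hz, rfl⟩
  refine ⟨isIrreducible_singleton.closure, fun s hs hle => ?_⟩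
  obtain ⟨w, hw⟩ := QuasiSober.sober hs.closure isClosed_closure
  have : w ⤳ z := hw.specializes (subset_closure (hle (subset_closure rfl)))
  rw [hz w this] at hw
  exact subset_closure.trans hw.def.ge

/-- Each point has a neighbourhood in the closure of a unique maximal point. -/
theorem exists_nhd_maximal [IsNoetherian E] (hS : ∀ s : S, CAlg2.IsGeomUnibranch (S.presheaf.stalk s))
    (f : E ⟶ S) [Etale f] (x : E) :
    ∃ (W : E.Opens) (ξ : E), x ∈ W ∧ (∀ y, y ⤳ ξ → y = ξ) ∧ ∀ y ∈ W, ξ ⤳ y := by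
  obtain ⟨ξ, hξx, hξ⟩ := SweepSix.exists_maximal_generalization x
  let F : Set E := ⋃ η ∈ {z : E | ∀ y, y ⤳ z → y = z} \ {ξ}, closure {η}
  have hF : IsClosed F := (finite_maximal.subset Set.diff_subset).isClosed_biUnion fun _ _ => isClosed_closure
  refine ⟨⟨Fᶜ, hF.isOpen_compl⟩, ξ, fun hxF => ?_, hξ, fun y hy => ?_⟩
  · obtain ⟨η, hη, hηx⟩ := Set.mem_iUnion₂.1 hxF
    exact hη.2 (maximal_unique hS f (specializes_iff_mem_closure.2 hηx) hξx hη.1 hξ)
  · obtain ⟨η, hηy, hη⟩ := SweepSix.exists_maximal_generalization y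
    by_cases he : η = ξ
    · exact he ▸ hηy
    · exact (hy (Set.mem_iUnion₂.2 ⟨η, ⟨hη, he⟩, specializes_iff_mem_closure.1 hηy⟩)).elim

theorem isOpen_closure_etale [IsNoetherian E] (hS : ∀ s : S, CAlg2.IsGeomUnibranch (S.presheaf.stalk s))
    (f : E ⟶ S) [Etale f] (O : E.Opens) : IsOpen (closure (O : Set E)) := by
  refine isOpen_iff_forall_mem_open.2 fun x hx => ?_
  obtain ⟨W, ξ, hxW, -, hW⟩ := exists_nhd_maximal hS f x
  obtain ⟨a, haW, haO⟩ := mem_closure_iff.1 hx W W.2 hxW
  have hξO : ξ ∈ O := (hW a haW).mem_open O.2 haO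
  refine ⟨W, fun y hy => ?_, W.2, hxW⟩
  exact closure_mono (Set.singleton_subset_iff.2 hξO) (specializes_iff_mem_closure.1 (hW y hy))

/-- A dense open is schematically dense. -/
theorem dominant_of_dense [IsLocallyNoetherian S] [IsNoetherian E]
    (hemb : AssSch.NoEmbedded (Coh.structureModule S))
    (hS : ∀ s : S, CAlg2.IsGeomUnibranch (S.presheaf.stalk s))
    (f : E ⟶ S) [Etale f] (O : E.Opens) (hO : Dense (O : Set E)) : IsSchemeTheoreticallyDominant O.ι := by
  rw [← GenFibNearLib.isSchematicallyDense_iff_dominant, AssPointLib.isSchematicallyDense_iff]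
  intro x hx
  obtain ⟨W, ξ, hxW, -, hW⟩ := exists_nhd_maximal hS f x
  obtain ⟨a, haW, haO⟩ := hO.inter_open_nonempty W W.2 ⟨x, hxW⟩
  rw [← eq_of_specializes_of_ass_etale hemb f hx ξ (hW x hxW)]
  exact (hW a haW).mem_open O.2 haO

end EtHullLib
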