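import Groth.Agent.EtHullLib.Adm

/-!
# Greatest elements and infima of étale affine factorizations
-/

set_option autoImplicit false
set_option linter.style.haveILetI false
set_option maxHeartbeats 1000000
set_option backward.isDefEq.respectTransparency false

universe u

open CategoryTheory CategoryTheory.Limits AlgebraicGeometry TopologicalSpace

namespace EtHullLib

variable {X S : Scheme.{u}} {f : X ⟶ S} [IsNoetherian S] [Flat f] [LocallyOfFinitePresentation f] [QuasiCompact f]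

theorem Adm.exists_sup (hS : ∀ s : S, CAlg2.IsGeomUnibranch (S.presheaf.stalk s))
    (hemb : AssSch.NoEmbedded (Coh.structureModule S)) (A B : Adm f) :
    ∃ C : Adm f, A.Le C ∧ B.Le C ∧ ∀ D : Adm f, A.Le D → B.Le D → C.Le D := by
  obtain ⟨E, g, u, v₁, v₂, hg, hga, hu, huf, e₁, e₂, e₃, e₄, huniv⟩ :=
    EtHullLib.exists_sup hS hemb f A.g B.g A.u B.u A.fac B.fac
  refine ⟨⟨E, g, u, hg, hga, hu, huf⟩, ⟨v₁, e₁, e₃⟩, ⟨v₂, e₂, e₄⟩, ?_⟩
  rintro D ⟨w₁, h₁, h₁'⟩ ⟨w₂, h₂, h₂'⟩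
  obtain ⟨w, hw, hw₁, -⟩ := huniv D.E D.g D.u w₁ w₂ D.etale D.affine D.dom D.fac h₁ h₂ h₁' h₂'
  refine ⟨w, hw, ?_⟩
  show w ≫ g = D.g
  rw [← e₃, reassoc_of% hw₁, h₁']

theorem exists_base [Surjective f] : Nonempty (Adm f) :=
  ⟨⟨S, 𝟙 S, f, inferInstance, inferInstance, AlgSpRegLib.dominant_of_flat_surjective f, Category.comp_id f⟩⟩

theorem exists_hull [Surjective f] [QuasiSeparated f]
    (hS : ∀ s : S, CAlg2.IsGeomUnibranch (S.presheaf.stalk s))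
    (hemb : AssSch.NoEmbedded (Coh.structureModule S)) :
    ∃ (E₀ : Scheme.{u}) (g₀ : E₀ ⟶ S) (u₀ : X ⟶ E₀), Etale g₀ ∧ IsAffineHom g₀ ∧
      IsSchemeTheoreticallyDominant u₀ ∧ u₀ ≫ g₀ = f ∧
      ∀ (E : Scheme.{u}) (g : E ⟶ S) (u : X ⟶ E), Etale g → IsAffineHom g → u ≫ g = f →
        ∃! v : E₀ ⟶ E, u₀ ≫ v = u ∧ v ≫ g = g₀ := by
  obtain ⟨G, -, hG⟩ := exists_greatest (f := f) hS (fun _ => True) ⟨exists_base.some, trivial⟩
    (fun A B _ _ => let ⟨C, h₁, h₂, _⟩ := Adm.exists_sup hS hemb A B; ⟨C, trivial, h₁, h₂⟩)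
  refine ⟨G.E, G.g, G.u, G.etale, G.affine, G.dom, G.fac, fun E g u hg hga huf => ?_⟩
  haveI : Flat (u ≫ g) := by rw [huf]; infer_instance
  haveI : LocallyOfFinitePresentation (u ≫ g) := by rw [huf]; infer_instance
  haveI : QuasiCompact (u ≫ g) := by rw [huf]; infer_instance
  obtain ⟨C, u', hC, hu', hud, -⟩ := exists_clopen hS hemb g u
  haveI := hC
  obtain ⟨v, hv, hv'⟩ := hG ⟨C, C.ι ≫ g, u', inferInstance, inferInstance, hud,
    by rw [reassoc_of% hu', huf]⟩ trivial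
  refine ⟨v ≫ C.ι, ⟨by rw [reassoc_of% hv, hu'], by rw [Category.assoc]; exact hv'⟩, fun w hw => ?_⟩
  refine MiscFlat6.ext_of_isSchemeTheoreticallyDominant G.u g w (v ≫ C.ι) ?_ ?_
  · rw [hw.2, Category.assoc]; exact hv'.symm
  · rw [hw.1, reassoc_of% hv, hu']

theorem exists_inf [Surjective f] [QuasiSeparated f]
    (hS : ∀ s : S, CAlg2.IsGeomUnibranch (S.presheaf.stalk s))
    (hemb : AssSch.NoEmbedded (Coh.structureModule S)) (A₁ A₂ : Adm f) :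
    ∃ G : Adm f, G.Le A₁ ∧ G.Le A₂ ∧ ∀ D : Adm f, D.Le A₁ → D.Le A₂ → D.Le G := by
  haveI : IsSchemeTheoreticallyDominant f := AlgSpRegLib.dominant_of_flat_surjective f
  obtain ⟨G, ⟨h₁, h₂⟩, hG⟩ := exists_greatest (f := f) hS (fun B => B.Le A₁ ∧ B.Le A₂)
    ⟨⟨S, 𝟙 S, f, inferInstance, inferInstance, inferInstance, Category.comp_id f⟩,
      ⟨A₁.g, A₁.fac, Category.comp_id _⟩, ⟨A₂.g, A₂.fac, Category.comp_id _⟩⟩
    (fun A B hA hB => by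
      obtain ⟨C, e₁, e₂, hC⟩ := Adm.exists_sup hS hemb A B
      exact ⟨C, ⟨hC A₁ hA.1 hB.1, hC A₂ hA.2 hB.2⟩, e₁, e₂⟩)
  exact ⟨G, h₁, h₂, fun D hD₁ hD₂ => hG D ⟨hD₁, hD₂⟩⟩

end EtHullLib
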