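import Groth.Agent.EtHullLib.Basic
import Groth.Agent.RegConLib.Charts
import Groth.Agent.AlgSpLib.RepDescent
import Groth.Agent.AlgSpLib.EtLocProp

/-!
# The affine hull of an étale scheme over a regular base
-/

set_option autoImplicit false
set_option linter.style.haveILetI false
set_option maxHeartbeats 1000000
set_option backward.isDefEq.respectTransparency false

universe u

open CategoryTheory CategoryTheory.Limits AlgebraicGeometry TopologicalSpace

namespace EtHullLib

theorem etale_hull {R : Type u} [CommRing R] [IsRegularRing R] {U E : Scheme.{u}}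
    (q : U ⟶ Spec (CommRingCat.of R)) (j : U ⟶ E) (g : E ⟶ Spec (CommRingCat.of R))
    [IsOpenImmersion j] [Etale g] [IsAffineHom g] (hjg : j ≫ g = q) :
    Etale (Spec.map q.appTop ≫ (Spec (CommRingCat.of R)).isoSpec.inv) := by
  haveI : IsAffine E := isAffine_of_isAffineHom g
  haveI : IsLocallyNoetherian E := LocallyOfFiniteType.isLocallyNoetherian g
  haveI : IsNoetherian E := { }
  have hreg : ∀ x : E, IsRegularLocalRing (E.presheaf.stalk x) := RegConLib.regular_stalk_over g
  obtain ⟨V, hV, hle, hd⟩ := exists_affine hreg j.opensRange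
  haveI : IsAffine (V : Scheme.{u}) := hV
  have hbij : Function.Bijective (E.presheaf.map (homOfLE hle).op) :=
    Groth.Agent.S16496.bijective_res_structure (fun x => haveI := hreg x; ⟨CommAlgDim.isDomain_of_isRegularLocalRing _, NormalLib.isIntegrallyClosed_of_isRegularLocalRing _⟩) hle hd
  let jV : U ⟶ (V : Scheme.{u}) := j.isoOpensRange.hom ≫ E.homOfLE hle
  haveI : IsIso (E.homOfLE hle).appTop := by
    have e : (E.homOfLE hle).appTop = V.topIso.hom ≫ E.presheaf.map (homOfLE hle).op ≫ j.opensRange.topIso.inv := by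
      rw [Scheme.homOfLE_appTop]
      simp only [Scheme.Opens.topIso, Functor.mapIso_hom, Functor.mapIso_inv, Iso.op_hom, Iso.op_inv, eqToIso.hom,
        eqToIso.inv, ← Functor.map_comp]
      rfl
    haveI : IsIso (E.presheaf.map (homOfLE hle).op) := (ConcreteCategory.isIso_iff_bijective _).2 hbij
    rw [e]; infer_instance
  haveI : IsIso jV.appTop := by
    rw [Scheme.Hom.comp_appTop]; infer_instance
  have hjV : jV ≫ V.ι ≫ g = q := by
    rw [← hjg, ← Category.assoc]
    congr 1
    rw [Category.assoc, Scheme.homOfLE_ι, Scheme.Hom.isoOpensRange_hom_ι]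
  have : Spec.map q.appTop ≫ (Spec (CommRingCat.of R)).isoSpec.inv =
      Spec.map jV.appTop ≫ (V : Scheme.{u}).isoSpec.inv ≫ V.ι ≫ g := by
    rw [← hjV, Scheme.Hom.comp_appTop, Spec.map_comp, Category.assoc, Scheme.isoSpec_inv_naturality]
  rw [this]
  infer_instance

theorem exists_of_etale_hull {R : Type u} [CommRing R] {U : Scheme.{u}}
    (q : U ⟶ Spec (CommRingCat.of R)) [Etale q] [IsSeparated q] [QuasiCompact q]
    (h : Etale (Spec.map q.appTop ≫ (Spec (CommRingCat.of R)).isoSpec.inv)) :
    ∃ (E : Scheme.{u}) (j : U ⟶ E) (g : E ⟶ Spec (CommRingCat.of R)),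
      IsOpenImmersion j ∧ Etale g ∧ IsAffineHom g ∧ j ≫ g = q := by
  haveI := AlgSpLib.locallyQuasiFinite_of_etale q
  haveI : U.IsQuasiAffine := AlgSpLib.quasiAffine_of_lqf q
  refine ⟨Spec Γ(U, ⊤), U.toSpecΓ, _, inferInstance, h, inferInstance, ?_⟩
  rw [← Category.assoc, ← Scheme.toSpecΓ_naturality, Category.assoc]
  simp [Scheme.isoSpec]

end EtHullLib
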