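import Groth.Agent.EtHullLib.Etale
import Groth.Agent.UOpenLib.Criterion
import Groth.Agent.AlgSpRegLib.ImageScheme

/-!
# Suprema of étale affine factorizations
-/

set_option autoImplicit false
set_option linter.style.haveILetI false
set_option maxHeartbeats 1000000
set_option backward.isDefEq.respectTransparency false

universe u

open CategoryTheory CategoryTheory.Limits AlgebraicGeometry TopologicalSpace

namespace EtHullLib

theorem flat_of_comp_etale {X Y Z : Scheme.{u}} (f : X ⟶ Y) (g : Y ⟶ Z) [Etale g] [h : Flat (f ≫ g)] :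
    Flat f := by
  haveI : MorphismProperty.HasOfPostcompProperty @Flat @Etale := by
    rw [MorphismProperty.hasOfPostcompProperty_iff_le_diagonal]
    intro A B q hq
    haveI : Etale q := hq
    exact inferInstanceAs (Flat (pullback.diagonal q))
  exact MorphismProperty.of_postcomp _ (W' := @Etale) f g ‹Etale g› h

theorem flat_of_comp_openImmersion {X Y Z : Scheme.{u}} (f : X ⟶ Y) (g : Y ⟶ Z) [IsOpenImmersion g]
    [h : Flat (f ≫ g)] : Flat f :=
  flat_of_comp_etale f g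

variable {X S : Scheme.{u}}

/-- The largest factorization through an open and closed subscheme. -/
theorem exists_clopen [IsNoetherian S] (hS : ∀ s : S, CAlg2.IsGeomUnibranch (S.presheaf.stalk s))
    (hemb : AssSch.NoEmbedded (Coh.structureModule S))
    {E : Scheme.{u}} (g : E ⟶ S) [Etale g] [IsAffineHom g] (u₀ : X ⟶ E)
    [Flat (u₀ ≫ g)] [LocallyOfFinitePresentation (u₀ ≫ g)] [QuasiCompact (u₀ ≫ g)] :
    ∃ (C : E.Opens) (u : X ⟶ C), IsClosedImmersion C.ι ∧ u ≫ C.ι = u₀ ∧ IsSchemeTheoreticallyDominant u ∧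
      (C : Set E) = closure (Set.range u₀) := by
  haveI : IsLocallyNoetherian E := LocallyOfFiniteType.isLocallyNoetherian g
  haveI : CompactSpace E := QuasiCompact.compactSpace_of_compactSpace g
  haveI : IsNoetherian E := { }
  haveI : Flat u₀ := flat_of_comp_etale u₀ g
  haveI : LocallyOfFiniteType u₀ := locallyOfFiniteType_of_comp u₀ g
  haveI : LocallyOfFinitePresentation u₀ := UOpenLib.locallyOfFinitePresentation_of_isLocallyNoetherian _
  let O : E.Opens := ⟨Set.range u₀, u₀.isOpenMap.isOpen_range⟩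
  let C : E.Opens := ⟨closure (O : Set E), isOpen_closure_etale hS g O⟩
  haveI : IsClosedImmersion C.ι := .of_isPreimmersion _ (by
    rw [Scheme.Opens.range_ι]
    exact isClosed_closure)
  have hr : Set.range u₀.base ⊆ Set.range C.ι.base := by
    rw [Scheme.Opens.range_ι]
    exact subset_closure
  let u := IsOpenImmersion.lift C.ι u₀ hr
  have hu : u ≫ C.ι = u₀ := IsOpenImmersion.lift_fac _ _ _
  refine ⟨C, u, inferInstance, hu, ?_, rfl⟩
  let O' : (C : Scheme.{u}).Opens := C.ι ⁻¹ᵁ O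
  have hr' : Set.range u.base ⊆ Set.range O'.ι.base := by
    rintro _ ⟨x, rfl⟩
    rw [Scheme.Opens.range_ι]
    show C.ι (u x) ∈ O
    rw [← Scheme.Hom.comp_apply, hu]
    exact ⟨x, rfl⟩
  let a := IsOpenImmersion.lift O'.ι u hr'
  have ha : a ≫ O'.ι = u := IsOpenImmersion.lift_fac _ _ _
  haveI : Flat (a ≫ O'.ι ≫ C.ι) := by rw [← Category.assoc, ha, hu]; infer_instance
  haveI : Flat a := flat_of_comp_openImmersion a (O'.ι ≫ C.ι)
  haveI : Surjective a := ⟨fun y => by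
    obtain ⟨x, hx⟩ : C.ι (O'.ι y) ∈ Set.range u₀ := y.2
    refine ⟨x, (O'.ι ≫ C.ι).isOpenEmbedding.injective ?_⟩
    rw [← Scheme.Hom.comp_apply, ← Category.assoc, ha, hu, hx]
    rfl⟩
  haveI : IsSchemeTheoreticallyDominant a := AlgSpRegLib.dominant_of_flat_surjective a
  haveI : IsNoetherian (C : Scheme.{u}) :=
    haveI : CompactSpace (C : Scheme.{u}) := QuasiCompact.compactSpace_of_compactSpace C.ι
    haveI := LocallyOfFiniteType.isLocallyNoetherian C.ι
    { }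
  haveI : IsSchemeTheoreticallyDominant O'.ι :=
    dominant_of_dense hemb hS (C.ι ≫ g) O' (by
      intro y
      rw [C.ι.isOpenEmbedding.isInducing.closure_eq_preimage_closure_image]
      show C.ι y ∈ closure _
      refine closure_mono ?_ y.2
      rintro z hz
      exact ⟨⟨z, subset_closure hz⟩, hz, rfl⟩)
  rw [← ha]
  infer_instance

theorem exists_sup [IsNoetherian S] (hS : ∀ s : S, CAlg2.IsGeomUnibranch (S.presheaf.stalk s))
    (hemb : AssSch.NoEmbedded (Coh.structureModule S))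
    (f : X ⟶ S) [Flat f] [LocallyOfFinitePresentation f] [QuasiCompact f]
    {E₁ E₂ : Scheme.{u}} (g₁ : E₁ ⟶ S) (g₂ : E₂ ⟶ S) (u₁ : X ⟶ E₁) (u₂ : X ⟶ E₂)
    [Etale g₁] [Etale g₂] [IsAffineHom g₁] [IsAffineHom g₂] (h₁ : u₁ ≫ g₁ = f) (h₂ : u₂ ≫ g₂ = f) :
    ∃ (E : Scheme.{u}) (g : E ⟶ S) (u : X ⟶ E) (v₁ : E ⟶ E₁) (v₂ : E ⟶ E₂),
      Etale g ∧ IsAffineHom g ∧ IsSchemeTheoreticallyDominant u ∧ u ≫ g = f ∧
      u ≫ v₁ = u₁ ∧ u ≫ v₂ = u₂ ∧ v₁ ≫ g₁ = g ∧ v₂ ≫ g₂ = g ∧
      ∀ (E' : Scheme.{u}) (g' : E' ⟶ S) (u' : X ⟶ E') (w₁ : E' ⟶ E₁) (w₂ : E' ⟶ E₂),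
        Etale g' → IsAffineHom g' → IsSchemeTheoreticallyDominant u' → u' ≫ g' = f →
        u' ≫ w₁ = u₁ → u' ≫ w₂ = u₂ → w₁ ≫ g₁ = g' → w₂ ≫ g₂ = g' →
        ∃ w : E' ⟶ E, u' ≫ w = u ∧ w ≫ v₁ = w₁ ∧ w ≫ v₂ = w₂ := by
  let P := pullback g₁ g₂
  let g : P ⟶ S := pullback.fst g₁ g₂ ≫ g₁
  let u₀ : X ⟶ P := pullback.lift u₁ u₂ (h₁.trans h₂.symm)
  have hu₀ : u₀ ≫ g = f := by rw [← Category.assoc, pullback.lift_fst, h₁]
  haveI : Flat (u₀ ≫ g) := by rw [hu₀]; infer_instance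
  haveI : LocallyOfFinitePresentation (u₀ ≫ g) := by rw [hu₀]; infer_instance
  haveI : QuasiCompact (u₀ ≫ g) := by rw [hu₀]; infer_instance
  haveI : IsAffineHom (pullback.fst g₁ g₂) := MorphismProperty.pullback_fst _ _ inferInstance
  haveI : Etale (pullback.fst g₁ g₂) := MorphismProperty.pullback_fst _ _ inferInstance
  haveI : IsAffineHom g := MorphismProperty.comp_mem _ _ _ inferInstance inferInstance
  obtain ⟨C, u, hC, hu, hud, hCr⟩ := exists_clopen hS hemb g u₀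
  haveI := hC
  refine ⟨C, C.ι ≫ g, u, C.ι ≫ pullback.fst g₁ g₂, C.ι ≫ pullback.snd g₁ g₂, inferInstance, inferInstance, hud,
    by rw [reassoc_of% hu, hu₀], by rw [reassoc_of% hu, pullback.lift_fst],
    by rw [reassoc_of% hu, pullback.lift_snd], Category.assoc _ _ _,
    by rw [Category.assoc, ← pullback.condition], ?_⟩
  intro E' g' u' w₁ w₂ _ _ _ hu' e₁ e₂ e₃ e₄
  haveI : QuasiCompact (u' ≫ g') := by rw [hu']; infer_instance
  haveI : QuasiCompact u' := MorphismProperty.of_postcomp @QuasiCompact (W' := @QuasiSeparated) u' g' inferInstance ‹_›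
  let w₀ : E' ⟶ P := pullback.lift w₁ w₂ (e₃.trans e₄.symm)
  have hw : u' ≫ w₀ = u₀ := by
    apply pullback.hom_ext <;> simp [w₀, u₀, e₁, e₂]
  have hr : Set.range w₀.base ⊆ Set.range C.ι.base := by
    rw [Scheme.Opens.range_ι, hCr, ← hw]
    rintro _ ⟨y, rfl⟩
    exact map_mem_closure w₀.continuous (u'.denseRange y) (by rintro _ ⟨x, rfl⟩; exact ⟨x, rfl⟩)
  refine ⟨IsOpenImmersion.lift C.ι w₀ hr, ?_, ?_, ?_⟩
  · rw [← cancel_mono C.ι, Category.assoc, IsOpenImmersion.lift_fac, hw, hu]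
  · rw [IsOpenImmersion.lift_fac_assoc, pullback.lift_fst]
  · rw [IsOpenImmersion.lift_fac_assoc, pullback.lift_snd]

end EtHullLib
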